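import Cfsg.Agent.Lib.Chev.AlgTw
import Cfsg.Agent.Lib.Chev.LiftS

/-!
Twisted Frobenius maps `x_r(t) ↦ x_{γ r}(t²)` on a universal Chevalley group over the algebraic
closure of the field with two elements, and central covers of a group by their fixed points.
-/

set_option autoImplicit false

namespace Cfsg.Lib.E6T

open Cfsg.Lib.Chev Cfsg.Lib.Chev.RootSys Cfsg.Lib.Chev.PreSys Cfsg.Lib.Chev.ChevSys Cfsg.Lib.Alg
  Cfsg.Lib.BN Subgroup

variable {ι Φ : Type} [Fintype ι] [DecidableEq ι] {R : RootSys ι Φ} {T : ChevTab R}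
  {k : Type*} [Field k] {G : Type*} [Group G] {C : ChevSys R k G} {φ σ : MulAut G}
  {γ : Equiv.Perm Φ} {Q : Type*} [Group Q]

theorem unit_eq_one [CharP k 2] {e : kˣ} (h : e * e = 1) : e = 1 :=
  units_eq_one_of_pow 2 e (by rw [sq, h])

variable (C) in
/-- The product of the elements `n_i(1)` along a word. -/
abbrev nW (l : List ι) : G := wp (fun i => C.n (R.simple i) 1) l

theorem acts_nW [CharP k 2] (l : List ι) : C.Acts (nW C l) (wp R.sref l) 1 := by
  induction l with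
  | nil => exact C.acts_one
  | cons i l ih =>
    rw [nW, wp_cons, wp_cons]
    exact ((C.acts_n_simple i).mul ih).congr rfl fun s => by
      rw [unit_eq_one (C.η_sq _ _)]; simp

theorem nW_mem {K : Subgroup G} {l : List ι} (h : ∀ i ∈ l, C.n (R.simple i) 1 ∈ K) :
    nW C l ∈ K :=
  K.list_prod_mem fun _ hx => by
    obtain ⟨i, hi, rfl⟩ := List.mem_map.1 hx
    exact h i hi

theorem x_sq [CharP k 2] (r : Φ) (t : k) : C.x r t * C.x r t = 1 := by
  rw [← C.x_add, CharTwo.add_self_eq_zero, C.x_zero]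

variable (C φ) in
/-- A twisted Frobenius map. -/
structure Tw (σ : MulAut G) (γ : Equiv.Perm Φ) : Prop where
  st : IsSt φ σ
  aut : R.IsAut γ
  x : ∀ r t, σ (C.x r t) = C.x (γ r) (t ^ 2)

namespace Tw

variable [CharP k 2] (hσ : Tw C φ σ γ)
include hσ

theorem n (r : Φ) (t : kˣ) : σ (C.n r t) = C.n (γ r) (t ^ 2) := by
  simp only [PreSys.n, map_mul, hσ.x, hσ.aut.neg, CharTwo.neg_eq, Units.val_pow_eq_pow_val,
    ← inv_pow]

theorem h (r : Φ) (t : kˣ) : σ (C.h r t) = C.h (γ r) (t ^ 2) := by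
  rw [h_def, h_def, map_mul, map_inv, hσ.n, hσ.n, one_pow]

theorem tor (hM : C.HMul) (c : ι → kˣ) :
    σ (hM.torus c) = hM.torus (mAct (R.wM γ) c ^ 2) := by
  have : σ.toMonoidHom.comp hM.torus =
      hM.torus.comp ((powMonoidHom 2).comp (mAct (R.wM γ))) :=
    MonoidHom.pi_ext fun i t => by
      simp only [MonoidHom.comp_apply, MulEquiv.coe_toMonoidHom, powMonoidHom_apply,
        hM.torus_mulSingle, hσ.h, mAct_mulSingle]
      rw [hM.h_eq_torus]
      congr 1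
      funext j
      rw [Pi.pow_apply, wM_apply, ← zpow_natCast, ← zpow_natCast, ← zpow_mul,
        ← zpow_mul, mul_comm]
  exact DFunLike.congr_fun this c

omit [CharP k 2] in
theorem mem_XS {S S' : Set Φ} (h : ∀ r ∈ S, γ r ∈ S') {g : G} (hg : g ∈ C.XS S) :
    σ g ∈ C.XS S' :=
  (XS_le (K := (C.XS S').comap σ.toMonoidHom)).2
    (fun r hr t => by simpa [hσ.x] using C.x_mem (h r hr) _) hg

theorem mem_H {g : G} (hg : g ∈ C.H) : σ g ∈ C.H :=
  (H_le_iff (K := C.H.comap σ.toMonoidHom)).2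
    (fun r t => by simpa [hσ.h] using C.h_mem_H _ _) hg

theorem nw {g : G} {w : Equiv.Perm Φ} (hg : C.NW g w) : C.NW (σ g) (γ * w * γ⁻¹) := by
  obtain ⟨l, h1, rfl⟩ := hg
  have h2 : C.NW (σ (nW C l)) (γ * wp R.sref l * γ⁻¹) := by
    clear h1
    induction l with
    | nil => simpa using C.nw_one
    | cons i l ih =>
      have := (nw_n (C := C) (γ (R.simple i)) 1).mul ih
      rw [← hσ.aut.conj_refl, refl_simple] at this
      rw [nW, wp_cons, wp_cons, map_mul, hσ.n, one_pow]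
      convert this using 1
      group
  simpa using h2.mul (nw_of_mem_H (hσ.mem_H h1))

theorem conj (hφ : IsFrob φ) (l : List ι) :
    Tw C φ (MulAut.conj (nW C l) * σ) (wp R.sref l * γ) :=
  ⟨hσ.st.conj hφ _, (isAut_wp l).mul hσ.aut, fun r t => by
    simpa [hσ.x] using (acts_nW (C := C) l).conj (γ r) (t ^ 2)⟩

theorem transport (hφ : IsFrob φ) {K : Subgroup G} (hK : Lang σ K) {l : List ι}
    (hl : nW C l ∈ K) : ∃ m ∈ K, ∃ τ, Tw C φ τ (wp R.sref l * γ) ∧
      ∀ y, y ∈ fix τ ↔ m * y * m⁻¹ ∈ fix σ := by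
  obtain ⟨m, hm, e⟩ := hK _ hl
  refine ⟨m, hm, _, hσ.conj hφ l, fun y => ?_⟩
  rw [mem_fix, mem_fix, MulAut.mul_apply, MulAut.conj_apply, ← e, map_mul, map_mul, map_inv]
  constructor <;> intro h
  · calc _ = m * (m⁻¹ * σ m * σ y * (m⁻¹ * σ m)⁻¹) * m⁻¹ := by group
      _ = _ := by rw [h]
  · calc _ = m⁻¹ * (σ m * σ y * (σ m)⁻¹) * m := by group
      _ = y := by rw [h]; group

theorem tor_mem (hM : C.HMul) {c : ι → kˣ} (h : mAct (R.wM γ) c ^ 2 = c) :
    hM.torus c ∈ fix σ := by rw [mem_fix, hσ.tor, h]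

omit [CharP k 2] in
/-- A fixed point attached to a pair of roots that are interchanged. -/
theorem pair_mem {r s : Φ} (h1 : γ r = s) (h2 : γ s = r) (h3 : ∀ t u, Commute (C.x r t) (C.x s u))
    {t : k} (ht : t ^ 4 = t) : C.x r t * C.x s (t ^ 2) ∈ fix σ := by
  rw [mem_fix, map_mul, hσ.x, hσ.x, h1, h2, ← pow_mul, ht, (h3 _ _).eq]

end Tw

theorem pair_mul [CharP k 2] {r s : Φ} (h3 : ∀ t u, Commute (C.x r t) (C.x s u)) (t u : k) :
    C.x r t * C.x s (t ^ 2) * (C.x r u * C.x s (u ^ 2)) = C.x r (t + u) * C.x s ((t + u) ^ 2) := by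
  rw [CharTwo.add_sq, C.x_add, C.x_add, mul_assoc, ← mul_assoc (C.x s _), ← (h3 _ _).eq]
  simp only [mul_assoc]

theorem pair_eq_one [CharP k 2] [Fintype Φ] (hF : C.Faithful) {r s : Φ} (hr : R.IsPos r)
    (hs : R.IsPos s) {t : k} (h : C.x r t * C.x s (t ^ 2) = 1) : t = 0 ∨ r = s ∧ t ^ 2 = t := by
  refine or_iff_not_imp_left.2 fun ht => ?_
  have h1 : C.x r t = C.x s (t ^ 2) := by
    rw [eq_inv_of_mul_eq_one_left h, inv_eq_of_mul_eq_one_right (x_sq _ _)]
  have h2 : r ∈ ({s} : Set Φ) := hF.mem_of_x_mem (isClosed_singleton s) (f := htL ι)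
    (fun _ h => by rw [Set.mem_singleton_iff.1 h]; exact hs.ht_pos) hr.ht_pos ht
    (by rw [h1]; exact C.x_mem (Set.mem_singleton s) _)
  rw [Set.mem_singleton_iff.1 h2] at h1
  exact ⟨h2, (hF.x_inj h1).symm⟩

variable (σ) in
/-- A central cover with kernel of exponent three. -/
structure Cov (π : fix σ →* Q) : Prop where
  surj : Function.Surjective π
  cen : ∀ z, π z = 1 → (z : G) ∈ center G
  cube : ∀ z, π z = 1 → z ^ 3 = 1

namespace Cov

variable {π : fix σ →* Q} (hπ : Cov σ π)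
include hπ

theorem transport {τ : MulAut G} {m : G} (h : ∀ y, y ∈ fix τ ↔ m * y * m⁻¹ ∈ fix σ) :
    ∃ π' : fix τ →* Q, Cov τ π' ∧ ∀ y, π' y = π ⟨m * y * m⁻¹, (h _).1 y.2⟩ := by
  let f : fix τ →* fix σ := ((MulAut.conj m).toMonoidHom.comp (fix τ).subtype).codRestrict _
    fun y => (h _).1 y.2
  refine ⟨π.comp f, ⟨hπ.surj.comp fun y => ⟨⟨m⁻¹ * y * m, (h _).2 (by simp [mul_assoc])⟩,
    Subtype.ext (by simp [f, mul_assoc])⟩, fun z hz => ?_, fun z hz => ?_⟩, fun _ => rfl⟩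
  · simpa [f, mul_assoc] using (inferInstance : (center G).Normal).conj_mem _ (hπ.cen _ hz) m⁻¹
  · have := congrArg Subtype.val ((map_pow f z 3).trans (hπ.cube _ hz))
    simpa [f, Subtype.ext_iff] using this

theorem exists_mul {a b : fix σ} (h : π a = π b) :
    ∃ z : fix σ, (z : G) ∈ center G ∧ z ^ 3 = 1 ∧ a = b * z := by
  have : π (b⁻¹ * a) = 1 := by simp [h]
  exact ⟨_, hπ.cen _ this, hπ.cube _ this, by simp⟩

theorem eq_of_pow {a b : fix σ} (h : π a = π b) {m : ℕ} (hm : m.Coprime 3) (ha : a ^ m = 1)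
    (hb : b ^ m = 1) : a = b := by
  obtain ⟨z, h1, h2, rfl⟩ := hπ.exists_mul h
  have h3 : Commute b z := Subtype.ext (mem_center_iff.1 h1 b)
  rw [h3.mul_pow, hb, one_mul] at ha
  rw [(pow_eq_one_iff_of_coprime hm).1 ⟨ha, h2⟩, mul_one]

theorem exists_lift {m : ℕ} (hm : m.Coprime 3) {x : Q} (hx : x ^ m = 1) :
    ∃ y, π y = x ∧ y ^ m = 1 := by
  obtain ⟨y, rfl⟩ := hπ.surj x
  have h1 := hπ.cube (y ^ m) (by rw [map_pow, hx])
  obtain ⟨a, b, h2⟩ : IsCoprime (m : ℤ) 3 := Nat.isCoprime_iff_coprime.2 hm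
  refine ⟨y ^ (b * 3), ?_, ?_⟩
  · rw [map_zpow, eq_sub_of_add_eq' h2, zpow_sub, mul_comm a, zpow_mul, zpow_natCast, hx]
    simp
  · rw [← zpow_natCast, ← zpow_mul, show b * 3 * m = (m * 3 : ℕ) * b by push_cast; ring,
      zpow_mul, zpow_natCast, pow_mul, h1, one_zpow]

theorem map_central (hQ : center Q = ⊥) {z : fix σ} (h : (z : G) ∈ center G) : π z = 1 :=
  hQ.le (mem_center_iff.2 fun x => by
    obtain ⟨y, rfl⟩ := hπ.surj x
    rw [← map_mul, ← map_mul]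
    exact congrArg π (Subtype.ext (mem_center_iff.1 h y)))

/-- Conjugation relations between elements of order prime to three lift. -/
theorem conj_eq {a x y : fix σ} (h : π a * π x * (π a)⁻¹ = π y) {m : ℕ} (hm : m.Coprime 3)
    (hx : x ^ m = 1) (hy : y ^ m = 1) : a * x * a⁻¹ = y :=
  hπ.eq_of_pow (by simpa using h) hm (by rw [conj_pow, hx]; simp) hy

theorem ne_one {x : fix σ} {m : ℕ} (hm : m.Coprime 3) (hx : x ^ m = 1) (h : x ≠ 1) : π x ≠ 1 :=
  fun e => h (hπ.eq_of_pow (by simpa using e) hm hx (one_pow m))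

end Cov

theorem mAct_congr {A : Type*} [CommGroup A] {M N : Matrix ι ι ℤ} {m : ℕ}
    (h : ∀ i j, (m : ℤ) ∣ M i j - N i j) {c : ι → A} (hc : c ^ m = 1) : mAct M c = mAct N c := by
  funext i
  refine Finset.prod_congr rfl fun j _ => ?_
  obtain ⟨a, ha⟩ := h i j
  rw [eq_add_of_sub_eq ha, zpow_add, zpow_mul, zpow_natCast, show c j ^ m = 1 from
    congrFun hc j, one_zpow, one_mul]

theorem zpow_congr {A : Type*} [Group A] {ξ : A} {y z : ι → ℤ} {m : ℕ} (hξ : ξ ^ m = 1)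
    (h : ∀ i, (m : ℤ) ∣ y i - z i) : (fun i => ξ ^ y i) = fun i => ξ ^ z i := by
  funext i
  obtain ⟨a, ha⟩ := h i
  rw [eq_add_of_sub_eq ha, zpow_add, zpow_mul, zpow_natCast, hξ, one_zpow, one_mul]

end Cfsg.Lib.E6T
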