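import Cfsg.Agent.Lib.E6T.CovMax
import Cfsg.Agent.Lib.Chev.CTA2
import Cfsg.Agent.S1066
import Cfsg.Agent.S1070

/-!
The cover of ²E₆(2) by fixed points of twisted Frobenius maps, and computations in the root system
of type E₆.
-/

set_option autoImplicit false

namespace Cfsg.Lib.E6T

open Cfsg.Lib.Chev Cfsg.Lib.Chev.RootSys Cfsg.Lib.Chev.PreSys Cfsg.Lib.Chev.ChevSys Cfsg.Lib.Alg
  Cfsg.Lib.BN Cfsg.Lib.Twisted Cfsg.Lie Subgroup
open scoped Matrix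

universe u

theorem twist_x {ι Φ κ : Type} [Fintype ι] [DecidableEq ι] {R : RootSys ι Φ} {k : Type*} [Field k]
    [CharP k 2] {G : Type*} [Group G] {C : ChevSys R k G} {Y : Sym R κ} (S : Twist C Y)
    (hS : ∀ i t, S.θ i t = t ^ 2 ^ 1) (r : Φ) (t : k) : S.σ (C.x r t) = C.x (Y.ρ r) (t ^ 2) := by
  induction r using induction_root (R := R) generalizing t with
  | simple i => rw [S.σ_pos, hS, Y.ρ_simple, pow_one]
  | step i r ih =>
    rw [S.σ_x_sref (ih _), unit_eq_one (C.η_sq _ _), unit_eq_one (C.η_sq _ _)]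
    simp

theorem exists_cov {K : Type u} [Field K] [Fintype K] (hK : Fintype.card K = 4) :
    ∃ (k : Type u) (_ : Field k) (_ : CharP k 2) (_ : IsAlgClosed k) (G : Type u) (_ : Group G)
      (C : ChevSys RE6 k G) (T : ChevTab RE6) (φ σ : MulAut G) (π : fix σ →* twistedE6 K 2),
        C.Alg T 2 φ ∧ T.Anti ∧ Tw C φ σ symE6.ρ ∧ Cov σ π := by
  have : CharP K 2 := charP_of_card_eq_prime_pow (f := 2) hK
  obtain ⟨φ, h⟩ := algE6 (AlgebraicClosure K) 2 (exists_pow_pow_eq K 2)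
  obtain ⟨S, hS⟩ := checkedE6.exists_twist_st _ h (Y := symE6) grE6_chk (by decide +kernel) 1
  obtain ⟨σ, h1, h2⟩ := h.exists_aut S hS two_pos (by rw [symE6_π]; decide)
  have hK' : Fintype.card K = 2 ^ 2 := hK
  obtain ⟨S', hS'⟩ := exists_twist_E6 Nat.prime_two.isPrimePow hK'
  obtain ⟨π, h3, -, h4⟩ := h.exists_proj_tw S hS (checkedE6.noA1 (by simp)) h1 h2 (algebraMap K _)
    (by rw [Nat.card_eq_fintype_card, hK]; rfl) (checkedE6.gsys_strongComm K) adjoint_E6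
    (checkedE6.gsys_grp K) hS' (isTw_E6 hK' hS') (gen_E6 hK' hS')
    ((H_inf_E6 hK' hS').ge.trans inf_le_right)
  let e := (equivOfMap (Subgroup.subtype_injective _) (map_KE6 (K := K) (q := 2))).symm
  have key : ∀ z, e (π z) = 1 → ∃ c ∈ RE6.kerChr (AlgebraicClosure K), (z : _) = h.tor c :=
    fun z hz => by
      obtain ⟨c, ⟨h5, -⟩, h6⟩ := h4 z (by simpa using hz)
      refine ⟨_, mem_kerChr.2 fun j => ?_, h6⟩
      have := congrArg (uMap (algebraMap K (AlgebraicClosure K))) (mem_kerChr.1 h5 j)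
      simp only [map_prod, map_zpow, map_one] at this
      exact this
  refine ⟨_, _, inferInstance, inferInstance, _, _, checkedE6.stSys _ (by simp), checkedE6.T, φ, σ,
    e.toMonoidHom.comp π, h, checkedE6.anti, ⟨⟨2, 1 * 2, two_pos, two_pos, h2⟩,
      isAut_sym (by rw [RE6_A, symE6_π]; decide) (by decide +kernel),
      fun r t => (h1 _).trans (twist_x S hS r t)⟩, e.surjective.comp h3, fun z hz => ?_,
    fun z hz => ?_⟩ <;> obtain ⟨c, h5, h6⟩ := key z hz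
  · exact h6 ▸ (tor_mem_center h).2 (funext_iff.1 h5)
  · obtain ⟨h7, h8⟩ := (ker_E6 (M := Additive (AlgebraicClosure K)ˣ) c).1 (mem_kerChr.1 h5)
    have h9 : c 0 ^ 3 = 1 := h7
    have h10 : c ^ 3 = 1 := funext fun i => by
      have h11 : c i = ![c 0, 1, c 0 ^ 2, 1, c 0, c 0 ^ 2] i := congrFun h8 i
      rw [Pi.pow_apply, h11]
      fin_cases i <;> simp [h9, pow_right_comm _ 2 3]
    exact Subtype.ext ((congrArg (· ^ 3) h6).trans
      ((map_pow _ _ _).symm.trans ((congrArg _ h10).trans (map_one _))))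

theorem basic {K : Type u} [Field K] [Fintype K] (hK : Fintype.card K = 4) :
    Nat.card (twistedE6 K 2) = 76532479683774853939200 ∧ IsSimpleGroup (twistedE6 K 2) ∧
      center (twistedE6 K 2) = ⊥ := by
  have h1 := Agent.S1066.result (K := K) (q := 2) Nat.prime_two.isPrimePow hK
  obtain ⟨h2, h3⟩ := Agent.S1070.result (K := K) (q := 2) Nat.prime_two.isPrimePow hK
  refine ⟨by norm_num at h1 ⊢; omega, h2, (Normal.eq_bot_or_eq_top inferInstance).resolve_right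
    fun e => h3 ⟨⟨fun a b => mem_center_iff.1 (e.ge (mem_top b)) a⟩⟩⟩

/-- Coefficients of the roots. -/
def al (r : Fin 72) (i : Fin 6) : ℤ := aN chevE6 certE6 r i

/-- The action of a word in the simple reflections on the roots. -/
def wr (l : List (Fin 6)) (r : Fin 72) : Fin 72 :=
  l.foldr (fun i s => Fin.ofNat 72 (t8 (wT certE6 i) s)) r

/-- The action of a word times the symmetry on the roots. -/
def gr (l : List (Fin 6)) (r : Fin 72) : Fin 72 := wr l (Fin.ofNat 72 (t8 ρE6 r))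

/-- The dot product. -/
def dot (a b : Fin 6 → ℤ) : ℤ :=
  a 0 * b 0 + a 1 * b 1 + a 2 * b 2 + a 3 * b 3 + a 4 * b 4 + a 5 * b 5

/-- The value of a root on a vector. -/
def evN (r : Fin 72) (y : Fin 6 → ℤ) : ℤ :=
  dot (al r) ![2 * y 0 - y 2, 2 * y 1 - y 3, 2 * y 2 - y 0 - y 3, 2 * y 3 - y 1 - y 2 - y 4,
    2 * y 4 - y 3 - y 5, 2 * y 5 - y 4]

/-- The matrix of a permutation of the roots. -/
def mat (g : Fin 72 → Fin 72) (i j : Fin 6) : ℤ := al (g (![56, 46, 42, 39, 37, 36] j)) i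

/-- A matrix times a vector. -/
def mv (g : Fin 72 → Fin 72) (y : Fin 6 → ℤ) (i : Fin 6) : ℤ := dot (mat g i) y

/-- The twisted element attached to a word. -/
noncomputable def gam (l : List (Fin 6)) : Equiv.Perm (Fin 72) := wp RE6.sref l * symE6.ρ

theorem α_eq : RE6.α = al := rfl

theorem co_eq : RE6.co = al := by
  have : ∀ r i, RE6.co r i = al r i := by decide +kernel
  exact funext fun r => funext (this r)

theorem ln_eq : ∀ r s, RE6.ln r = RE6.ln s := by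
  have : ∀ r, RE6.ln r = 1 := by decide +kernel
  simp [this]

theorem coe_wp (l : List (Fin 6)) : ⇑(wp RE6.sref l) = wr l := by
  induction l with
  | nil => rfl
  | cons i l ih =>
    funext r
    rw [wp_cons, Equiv.Perm.mul_apply, ih]
    have := checkedE6.sref_val i (wr l r)
    exact Fin.ext (this.trans (Nat.mod_eq_of_lt (this ▸ Fin.isLt _)).symm)

theorem coe_gam (l : List (Fin 6)) : ⇑(gam l) = gr l := by
  have : ∀ r, symE6.ρ r = Fin.ofNat 72 (t8 ρE6 r) := by decide +kernel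
  funext r
  rw [gam, Equiv.Perm.mul_apply, coe_wp, this, gr]

theorem wp_mul_gam (v l : List (Fin 6)) : wp RE6.sref v * gam l = gam (v ++ l) := by
  rw [gam, gam, wp_append, mul_assoc]

theorem ev_eq (r : Fin 72) (y : Fin 6 → ℤ) : RE6.ev r y = evN r y := by
  rw [ev_eq_sum]
  simp only [ev_apply, pair_simple_simple, RE6_A, Fin.sum_univ_six, evN, dot, α_eq]
  simp
  ring

theorem pair_eq (r s : Fin 72) : RE6.pair r s = evN s (al r) := by rw [← ev_co, ev_eq, co_eq]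

theorem wM_eq (w : Equiv.Perm (Fin 72)) : RE6.wM w = .of (mat w) := by
  ext i j
  rw [wM_apply, co_eq, RE6_simple]
  rfl

theorem wM_mulVec (w : Equiv.Perm (Fin 72)) (y : Fin 6 → ℤ) : RE6.wM w *ᵥ y = mv w y := by
  funext i
  simp [wM_eq, Matrix.mulVec, dotProduct, Fin.sum_univ_six, mv, dot]

section

variable {k : Type*} [Field k] {ξ : kˣ} {m : ℕ} {y z : Fin 6 → ℤ} {w : Equiv.Perm (Fin 72)}

theorem mAct_eq (hξ : orderOf ξ = m) (h : ∀ i, (m : ℤ) ∣ mv w y i - z i) :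
    mAct (RE6.wM w) (fun i => ξ ^ y i) = fun i => ξ ^ z i := by
  rw [mAct_zpow, wM_mulVec, zpow_congr (hξ ▸ pow_orderOf_eq_one ξ) h]

theorem mAct_sq (ξ : kˣ) (y : Fin 6 → ℤ) :
    mAct (RE6.wM w) (fun i => ξ ^ y i) ^ 2 = fun i => ξ ^ (2 * mv w y i) := by
  rw [mAct_zpow, wM_mulVec]
  exact funext fun i => by rw [Pi.pow_apply, mul_comm, zpow_mul, zpow_ofNat]

theorem mAct_sq_eq (hξ : orderOf ξ = m) (h : ∀ i, (m : ℤ) ∣ 2 * mv w y i - y i) :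
    mAct (RE6.wM w) (fun i => ξ ^ y i) ^ 2 = fun i => ξ ^ y i := by
  rw [mAct_sq, zpow_congr (hξ ▸ pow_orderOf_eq_one ξ) h]

theorem chr_eq_one (hξ : orderOf ξ = m) {r : Fin 72} :
    RE6.chr (fun i => ξ ^ y i) r = 1 ↔ (m : ℤ) ∣ evN r y := by
  rw [chr_zpow, ev_eq, ← hξ, orderOf_dvd_iff_zpow_eq_one]

theorem chr_eq_chr (hξ : orderOf ξ = m) {r : Fin 72} :
    RE6.chr (fun i => ξ ^ y i) r = RE6.chr (fun i => ξ ^ z i) r ↔ (m : ℤ) ∣ evN r y - evN r z := by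
  rw [chr_zpow, chr_zpow, ev_eq, ev_eq, ← hξ, orderOf_dvd_iff_zpow_eq_one, zpow_sub, mul_inv_eq_one]

theorem vec_pow (hξ : orderOf ξ = m) : (fun i => ξ ^ y i) ^ m = 1 := funext fun i => by
  rw [Pi.pow_apply, ← zpow_natCast, ← zpow_mul, mul_comm, zpow_mul, zpow_natCast, ← hξ,
    pow_orderOf_eq_one, one_zpow, Pi.one_apply]

theorem vec_eq_one (hξ : orderOf ξ = m) : (fun i => ξ ^ y i) = 1 ↔ ∀ i, (m : ℤ) ∣ y i := by
  simp [funext_iff, ← hξ, orderOf_dvd_iff_zpow_eq_one]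

theorem chr_pow_eq_one {X : Fin 6 → Fin 6 → ℤ}
    (h : ∀ i j, dot (X i) (fun a => 2 * mat w a j - if a = j then 1 else 0) = m * RE6.A j i)
    (t : Fin 6 → kˣ) (ht : mAct (RE6.wM w) t ^ 2 = t) (r : Fin 72) : RE6.chr t r ^ m = 1 := by
  have h1 : Matrix.of X * ((2 : ℤ) • RE6.wM w - 1) = (m : ℤ) • Matrix.of fun i j => RE6.A j i := by
    ext i j
    simpa [wM_eq, Matrix.mul_apply, Fin.sum_univ_six, dot, Matrix.one_apply] using h i j
  have h2 := congrArg (mAct · t) h1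
  simp only [mAct_mul, mAct_sub, mAct_smul, zpow_ofNat, ht, mAct_one, div_self', map_one,
    zpow_natCast] at h2
  rw [RootSys.chr_eq_prod, ← Finset.prod_pow]
  refine Finset.prod_eq_one fun j _ => ?_
  rw [← zpow_natCast, ← zpow_mul, mul_comm, zpow_mul, zpow_natCast, RootSys.chr_simple,
    show (∏ i, t i ^ RE6.A i j) ^ m = 1 from (congrFun h2 j).symm, one_zpow]

theorem exists_order [CharP k 2] [IsAlgClosed k] (hm : Odd m) : ∃ ξ : kˣ, orderOf ξ = m := by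
  obtain ⟨a, rfl⟩ := hm
  exact (exists_primitive (by simp [CharTwo.two_eq_zero])).imp fun _ h => h.1

end

variable {k : Type*} [Field k] [CharP k 2] [IsAlgClosed k] {G : Type*} [Group G]
  {C : ChevSys RE6 k G} {T : ChevTab RE6} {φ σ : MulAut G} {Q : Type*} [Group Q]
  (h : C.Alg T 2 φ) {π : fix σ →* Q}
include h

omit [IsAlgClosed k] in
theorem exists_type (hσ : Tw C φ σ symE6.ρ) (hπ : Cov σ π) (l : List (Fin 6)) :
    ∃ τ, ∃ π' : fix τ →* Q, Tw C φ τ (gam l) ∧ Cov τ π' ∧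
      ∀ y : fix τ, ∃ x : fix σ, π x = π' y ∧ IsConj (y : G) x := by
  obtain ⟨m, -, τ, h1, h2⟩ := hσ.transport h.frob (K := ⊤) (l := l)
    (fun a _ => (h.lang_top hσ.st a).imp fun _ e => ⟨mem_top _, e⟩) (mem_top _)
  obtain ⟨π', h3, h4⟩ := hπ.transport h2
  exact ⟨τ, π', h1, h3, fun y => ⟨_, (h4 y).symm, isConj_iff.2 ⟨m, rfl⟩⟩⟩

theorem isConj_of_word (hσ : IsSt φ σ) {τ τ' : MulAut G} {π₁ : fix τ →* Q} {π₂ : fix τ' →* Q}
    (h1 : ∀ y : fix τ, ∃ x : fix σ, π x = π₁ y ∧ IsConj (y : G) x)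
    (h2 : ∀ y : fix τ', ∃ x : fix σ, π x = π₂ y ∧ IsConj (y : G) x) {ξ : kˣ} {m : ℕ}
    (hξ : orderOf ξ = m) {y z : Fin 6 → ℤ} (hy : h.tor (fun i => ξ ^ y i) ∈ fix τ)
    (hz : h.tor (fun i => ξ ^ z i) ∈ fix τ') {l : List (Fin 6)}
    (e : ∀ i, (m : ℤ) ∣ mv (wr l) y i - z i) : IsConj (π₁ ⟨_, hy⟩) (π₂ ⟨_, hz⟩) := by
  obtain ⟨a, h3, h4⟩ := h1 ⟨_, hy⟩
  obtain ⟨b, h5, h6⟩ := h2 ⟨_, hz⟩
  obtain ⟨g, hg⟩ := isConj_iff.1 h4
  rw [← h3, ← h5]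
  refine π.map_isConj (h.isConj_fix hσ ⟨g, _, hg.symm⟩ (h4.symm.trans (.trans (isConj_iff.2
    ⟨_, (h.hMul.nw_conj_torus (C.nw_wp l) _).trans (congrArg _ (mAct_eq hξ ?_))⟩) h6)))
  rwa [coe_wp]

variable {l : List (Fin 6)} (hσ : Tw C φ σ (gam l))
include hσ

omit [IsAlgClosed k] in
theorem vec_mem {ξ : kˣ} {m : ℕ} (hξ : orderOf ξ = m) {y : Fin 6 → ℤ}
    (e : ∀ i, (m : ℤ) ∣ 2 * mv (gr l) y i - y i) : h.tor (fun i => ξ ^ y i) ∈ fix σ :=
  hσ.tor_mem h.hMul (mAct_sq_eq hξ (by rwa [coe_gam]))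

variable (hπ : Cov σ π)
include hπ

omit [IsAlgClosed k] hσ [CharP k 2] in
theorem orderOf_vec {ξ : kˣ} {p : ℕ} (hp : p.Prime) (hp3 : p.Coprime 3) (hξ : orderOf ξ = p)
    {y : Fin 6 → ℤ} (hy : h.tor (fun i => ξ ^ y i) ∈ fix σ) (e : ¬ ∀ i, (p : ℤ) ∣ y i) :
    orderOf (π ⟨_, hy⟩) = p := by
  have := Fact.mk hp
  have h1 : (⟨_, hy⟩ : fix σ) ^ p = 1 :=
    Subtype.ext ((map_pow _ _ _).symm.trans ((congrArg _ (vec_pow hξ)).trans (map_one _)))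
  exact orderOf_eq_prime (by rw [← map_pow, h1, map_one]) (hπ.ne_one hp3 h1 fun h2 =>
    e ((vec_eq_one hξ).1 (h.inj ((congrArg Subtype.val h2).trans (map_one _).symm))))

omit [IsAlgClosed k] in
theorem exists_sq {ξ : kˣ} {p : ℕ} (hp : p.Prime) (hp3 : p.Coprime 3) (hξ : orderOf ξ = p)
    {y z : Fin 6 → ℤ} (hy : ∀ i, (p : ℤ) ∣ 2 * mv (gr l) y i - y i)
    (hz : ∀ i, (p : ℤ) ∣ 2 * mv (gr l) z i - z i)
    (e : ∀ a < p, ∀ b < p, (∀ i, (p : ℤ) ∣ a * y i + b * z i) → a = 0 ∧ b = 0) :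
    ∃ S : Subgroup Q, Nat.card S = p ^ 2 ∧ ∀ x, x ∈ S ↔ ∃ a < p, ∃ b < p,
      ∃ hc : h.tor (fun i => ξ ^ (a * y i + b * z i)) ∈ fix σ, π ⟨_, hc⟩ = x := by
  have := Fact.mk hp
  have hm : ∀ a b : ℕ, h.tor (fun i => ξ ^ (a * y i + b * z i)) ∈ fix σ := fun a b => by
    convert mul_mem (pow_mem (vec_mem h hσ hξ hy) a) (pow_mem (vec_mem h hσ hξ hz) b)
    rw [← map_pow, ← map_pow, ← map_mul]
    congr 1
    funext i
    simp [zpow_add, mul_comm (_ : ℤ), zpow_mul]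
  let f : Multiplicative (ZMod p × ZMod p) →* Q := π.comp <| MonoidHom.mk'
    (fun a => ⟨_, hm a.toAdd.1.val a.toAdd.2.val⟩) fun a b => Subtype.ext <| by
      rw [coe_mul, ← map_mul]
      refine congrArg h.tor (funext fun i => ?_)
      rw [Pi.mul_apply, ← zpow_add, zpow_eq_zpow_iff_modEq, hξ, ← ZMod.intCast_eq_intCast_iff]
      simp
      ring
  refine ⟨f.range, ?_, fun x => ⟨?_, ?_⟩⟩
  · rw [← Nat.card_congr (f.ofInjective ((injective_iff_map_eq_one f).2 fun a ha => ?_)).toEquiv]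
    · simp [sq]
    by_contra h1
    refine hp.ne_one ((orderOf_vec h hπ hp hp3 hξ (hm a.toAdd.1.val a.toAdd.2.val)
      fun h2 => h1 ?_).symm.trans (orderOf_eq_one_iff.2 ha))
    obtain ⟨h3, h4⟩ := e _ (ZMod.val_lt _) _ (ZMod.val_lt _) h2
    exact Multiplicative.toAdd.injective (Prod.ext ((ZMod.val_eq_zero _).1 h3)
      ((ZMod.val_eq_zero _).1 h4))
  · rintro ⟨a, rfl⟩
    exact ⟨_, ZMod.val_lt _, _, ZMod.val_lt _, hm _ _, rfl⟩
  · rintro ⟨a, ha, b, hb, hc, rfl⟩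
    refine ⟨.ofAdd (a, b), congrArg π (Subtype.ext ?_)⟩
    change h.tor (fun i => ξ ^ ((a : ZMod p).val * y i + (b : ZMod p).val * z i)) = _
    rw [ZMod.val_cast_of_lt ha, ZMod.val_cast_of_lt hb]

variable (hQ : center Q = ⊥)
include hQ

theorem case_S {ξ : kˣ} {p q : ℕ} (hξ : orderOf ξ = p) {y y' z f : Fin 6 → ℤ}
    {X : Fin 6 → Fin 6 → ℤ} {v v' u : List (Fin 6)} {r : Fin 72}
    (c1 : p.Coprime 3 ∧ Odd q ∧ q.Coprime 3 ∧ q.Coprime p ∧ q.Coprime 51840)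
    (c2 : ∀ r, (p : ℤ) ∣ evN r y → ¬ (p : ℤ) ∣ evN r y')
    (c3 : ∀ i j, dot (X i) (fun a => 2 * mat (gr l) a j - if a = j then 1 else 0) = p * RE6.A j i)
    (c4 : ∀ r, (9 : ℤ) ∣ evN r (fun i => 2 * mv (gr l) z i) - evN r z)
    (c5 : (∀ i, (9 : ℤ) ∣ mv (wr v) z i - z i) ∧ ∀ i, (9 : ℤ) ∣ mv (wr v') z i - z i)
    (c6 : ∀ r, gr (v ++ l) (wr u r) = wr u (gr (v ++ l) r))
    (c7 : ¬ (9 : ℤ) ∣ evN r (mv (wr u) z) - evN r z)
    (c8 : (∀ i, (q : ℤ) ∣ 2 * mv (gr (v' ++ l)) f i - f i) ∧ ¬ ∀ i, (q : ℤ) ∣ f i)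
    {P : Subgroup Q} (hP : ∀ y ∈ P, ∃ x : fix σ, (x : G) ∈ C.H ∧ π x = y)
    (hy : h.tor (fun i => ξ ^ y i) ∈ fix σ) (h1 : π ⟨_, hy⟩ ∈ P)
    (hy' : h.tor (fun i => ξ ^ y' i) ∈ fix σ) (h1' : π ⟨_, hy'⟩ ∈ P)
    (hN : ∀ y ∈ normalizer (P : Set Q), y ^ q = 1 → ∀ x ∈ P, y * x * y⁻¹ = x) :
    ¬ IsCoatom (normalizer (P : Set Q)) := by
  obtain ⟨η, hη⟩ := exists_order (k := k) (m := 9) (by decide)
  obtain ⟨ζ, hζ⟩ := exists_order (k := k) c1.2.1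
  refine not_coatom_S h hσ hπ hQ c1.1 hP hy h1 (vec_pow hξ) hy' h1' (vec_pow hξ)
    (fun r => by simpa only [ne_eq, chr_eq_one hξ] using c2 r)
    (chr_pow_eq_one (by rwa [coe_gam])) (d := fun i => η ^ z i)
    (fun r => by rw [mAct_sq, chr_eq_chr hη, coe_gam]; exact c4 r) (vec_pow hη)
    (c1.1.symm.pow_left 2) (wp_mem_W u) (v := v) (v' := v')
    (mAct_eq hη (by rw [coe_wp]; exact c5.1)) (Equiv.ext fun r => ?_)
    ⟨r, by rw [mAct_zpow, wM_mulVec, Ne, chr_eq_chr hη, coe_wp]; exact c7⟩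
    (mAct_eq hη (by rw [coe_wp]; exact c5.2)) (f := fun i => ζ ^ f i)
    (mAct_sq_eq hζ (by rw [wp_mul_gam, coe_gam]; exact c8.1)) (mt (vec_eq_one hζ).1 c8.2)
    (vec_pow hζ) c1.2.2.1 c1.2.2.2.1 (by rw [show Nat.card RE6.W = _ from cardWE6 checkedE6]
                                         exact c1.2.2.2.2) hN
  rw [wp_mul_gam, Equiv.Perm.mul_apply, Equiv.Perm.mul_apply, coe_gam, coe_wp, c6]

theorem case_M [IsSimpleGroup Q] {ξ : kˣ} {p : ℕ} (hξ : orderOf ξ = p) {y : Fin 6 → ℤ}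
    {J v : List (Fin 6)} {r s a b θ θ' : Fin 72} (c1 : p.Prime ∧ p.Coprime 3 ∧ p.Coprime 5)
    (c2 : ¬ ∀ i, (p : ℤ) ∣ y i)
    (c3 : gr l r = s ∧ gr l s = r ∧ RE6.IsPos r ∧ RE6.IsPos s ∧ 0 ≤ evN s (al r))
    (c4 : ∀ x ∈ [r, s, θ, θ'], (p : ℤ) ∣ evN x y)
    (c5 : ∀ r, (∀ i ∉ J, al r i = 0) → ∀ i ∉ J, al (gr l r) i = 0)
    (c6 : ∀ r, (p : ℤ) ∣ evN r y → (∀ s, (∀ i ∉ J, al s i = 0) → evN s (al r) = 0) ∧
      ¬ (5 : ℤ) ∣ evN r (al θ) + evN r (al θ'))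
    (c7 : ∀ i ∈ v, i ∈ J)
    (c8 : gr (v ++ l) a = b ∧ gr (v ++ l) b = a ∧ RE6.IsPos a ∧ RE6.IsPos b ∧ 0 ≤ evN b (al a) ∧
      a ≠ b ∧ (∀ i ∉ J, al a i = 0) ∧ ∀ i ∉ J, al b i = 0)
    (hy : h.tor (fun i => ξ ^ y i) ∈ fix σ) :
    ¬ IsCoatom (normalizer (zpowers (π ⟨_, hy⟩) : Set Q)) := by
  obtain ⟨t, ht⟩ := exists_order (k := k) (m := 5) (by decide)
  refine not_coatom_M h hσ hπ hQ ln_eq c1.1 c1.2.1 hy (vec_pow hξ) (mt (vec_eq_one hξ).1 c2)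
    (r := r) (s := s) (by rwa [coe_gam, pair_eq])
    ⟨(chr_eq_one hξ).2 (c4 _ (by simp)), (chr_eq_one hξ).2 (c4 _ (by simp))⟩ (J := {i | i ∈ J})
    (by rw [coe_gam]; exact c5)
    (fun r s h1 h2 => (pair_eq r s).trans ((c6 r ((chr_eq_one hξ).1 h1)).1 s h2)) c7 (a := a)
    (b := b) (by rwa [wp_mul_gam, coe_gam, pair_eq]) (θ := θ) (θ' := θ')
    ⟨(chr_eq_one hξ).2 (c4 _ (by simp)), (chr_eq_one hξ).2 (c4 _ (by simp))⟩ (t := t) fun r e => ?_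
  rw [← zpow_add, mul_eq_one_iff_eq_inv] at e
  have h1 : RE6.chr (fun i => ξ ^ y i) r = 1 := (pow_eq_one_iff_of_coprime c1.2.2).1
    ⟨by rw [← chr_pow, vec_pow hξ, chr_one], by
      rw [e, inv_pow, ← zpow_natCast, ← zpow_mul, mul_comm, zpow_mul, zpow_natCast, ← ht,
        pow_orderOf_eq_one, one_zpow, inv_one]⟩
  rw [h1, eq_comm, inv_eq_one, ← orderOf_dvd_iff_zpow_eq_one, ht, pair_eq, pair_eq] at e
  exact (c6 r ((chr_eq_one hξ).1 h1)).2 e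

end Cfsg.Lib.E6T
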