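import Cfsg.Agent.Lib.E6T.Cov

/-!
Centralisers and normalisers of semisimple elements in a group covered by the fixed points of a
twisted Frobenius map.
-/

set_option autoImplicit false

namespace Cfsg.Lib.E6T

open Cfsg.Lib.Chev Cfsg.Lib.Chev.RootSys Cfsg.Lib.Chev.PreSys Cfsg.Lib.Chev.ChevSys Cfsg.Lib.Alg
  Cfsg.Lib.BN Subgroup

section Grp

variable {Q : Type*} [Group Q]

theorem conj_eq_or_inv {a x : Q} {p : ℕ} (hp : p.Prime) (ha : a * a = 1) (hx : x ^ p = 1)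
    (h : a * x * a⁻¹ ∈ zpowers x) : a * x * a⁻¹ = x ∨ a * x * a⁻¹ = x⁻¹ := by
  obtain ⟨i, hi⟩ := mem_zpowers_iff.1 h
  have h1 : x ^ ((i - 1) * (i + 1)) = 1 := by
    have : x ^ (i * i) = x := by
      rw [zpow_mul, hi, conj_zpow, hi, ← mul_assoc, ← mul_assoc, ha, mul_assoc, ← mul_inv_rev, ha]
      simp
    rw [show (i - 1) * (i + 1) = i * i - 1 by ring, zpow_sub, this]
    simp
  rcases (Nat.dvd_prime hp).1 (orderOf_dvd_of_pow_eq_one hx) with e | e
  · simp [orderOf_eq_one_iff.1 e]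
  rw [← orderOf_dvd_iff_zpow_eq_one, e] at h1
  rw [← hi]
  refine ((Nat.prime_iff_prime_int.1 hp).dvd_or_dvd h1).imp (fun h => ?_) fun h => ?_ <;>
    rw [← e, orderOf_dvd_iff_zpow_eq_one] at h
  · rwa [zpow_sub_one, mul_inv_eq_one] at h
  · rwa [zpow_add_one, mul_eq_one_iff_eq_inv] at h

theorem comm_of_normalizer [Finite Q] {P : Subgroup Q} {y : Q} (hy : y ∈ normalizer (P : Set Q))
    {l : ℕ} (hl : l.Prime) (h1 : y ^ l = 1)
    (h : ∀ d, d ∣ Nat.card P → d ≡ Nat.card P [MOD l] → d = Nat.card P) {x : Q} (hx : x ∈ P) :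
    y * x * y⁻¹ = x := by
  have := Fact.mk hl
  let a : MulAut P := P.normalizerMonoidHom ⟨y, hy⟩
  have h2 : IsPGroup l (zpowers a) := IsPGroup.of_card (n := (orderOf a).factorization l) (by
    have : a ^ l = 1 := by
      rw [← map_pow, show (⟨y, hy⟩ : normalizer (P : Set Q)) ^ l = 1 from Subtype.ext h1, map_one]
    rw [Nat.card_zpowers]
    rcases (Nat.dvd_prime hl).1 (orderOf_dvd_of_pow_eq_one this) with e | e <;> simp [e, hl])
  let F : Subgroup P := a.toMonoidHom.eqLocus (.id P)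
  have h3 : Nat.card (MulAction.fixedPoints (zpowers a) P) = Nat.card F := by
    congr 2
    ext x
    exact ⟨fun h => h ⟨a, mem_zpowers a⟩, fun h => by
      have : zpowers a ≤ MulAction.stabilizer _ x := zpowers_le.2 h
      exact fun g => this g.2⟩
  have h4 : F = ⊤ := F.eq_top_of_card_eq
    (h _ F.card_subgroup_dvd_card (h3 ▸ (h2.card_modEq_card_fixedPoints P).symm))
  exact congrArg Subtype.val (h4.ge (mem_top (⟨x, hx⟩ : P)))

theorem isCoatom_conj {P : Subgroup Q} (g : Q) (h : IsCoatom (normalizer (P : Set Q))) :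
    IsCoatom (normalizer (P.map (MulAut.conj g).toMonoidHom : Set Q)) := by
  rw [← map_equiv_normalizer_eq]
  exact ((MulAut.conj g).mapSubgroup.isCoatom_iff _).2 h

theorem exists_conj_le [Finite Q] {p n : ℕ} (hp : p.Prime) {S P : Subgroup Q}
    (hS : Nat.card S = p ^ n) (hn : ¬ p ^ (n + 1) ∣ Nat.card Q) (hP : IsPGroup p P) :
    ∃ g, P.map (MulAut.conj g).toMonoidHom ≤ S := by
  have := Fact.mk hp
  obtain ⟨S', hS'⟩ := hP.exists_le_sylow
  obtain ⟨g, hg⟩ := MulAction.exists_smul_eq Q S' (Sylow.ofCard S (by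
    rw [hS]
    congr 1
    exact le_antisymm ((hp.pow_dvd_iff_le_factorization Nat.card_pos.ne').1
      (hS ▸ S.card_subgroup_dvd_card)) (Nat.lt_succ_iff.1 (not_le.1 fun e => hn
        ((hp.pow_dvd_iff_le_factorization Nat.card_pos.ne').2 e)))))
  exact ⟨g, (map_mono hS').trans (congrArg Sylow.toSubgroup hg).le⟩

end Grp

variable {ι Φ : Type} [Fintype ι] [DecidableEq ι] [Fintype Φ] {R : RootSys ι Φ} {T : ChevTab R}
  {k : Type*} [Field k] [CharP k 2] [IsAlgClosed k] {G : Type*} [Group G] {C : ChevSys R k G}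
  {φ σ : MulAut G} {γ : Equiv.Perm Φ} {Q : Type*} [Group Q] (h : C.Alg T 2 φ)
include h

omit [CharP k 2] [IsAlgClosed k] in
theorem tor_mem_center {c : ι → kˣ} : h.tor c ∈ center G ↔ ∀ r, R.chr c r = 1 := by
  rw [h.hMul.center_eq h.faithful h.top, mem_map_iff_mem h.inj]
  exact funext_iff

omit [CharP k 2] [IsAlgClosed k] in
theorem center_le_H : center G ≤ C.H := by
  rw [h.hMul.center_eq h.faithful h.top, ← h.hMul.torus_range]
  exact map_le_range _ _

omit [Fintype Φ] [IsAlgClosed k] in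
theorem eq_one_of_mem_H {a : G} (ha : a ∈ C.H) (h2 : a * a = 1) : a = 1 := by
  obtain ⟨c, rfl⟩ := h.hMul.exists_torus ha
  exact (pow_eq_one_iff_of_coprime (h.coprime_orderOf_tor c)).1 ⟨pow_orderOf_eq_one _, by rwa [sq]⟩

omit [Fintype Φ] [IsAlgClosed k] in
theorem mem_XS_of_sq {S : Set Φ} {a : G} (ha : a ∈ C.H ⊔ C.XS S) (h2 : a * a = 1) :
    a ∈ C.XS S := by
  rw [sup_comm, mem_sup_iff_of_le_normalizer (C.H_le_normalizer S)] at ha
  obtain ⟨m, hm, b, hb, rfl⟩ := ha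
  obtain ⟨c, rfl⟩ := h.hMul.exists_torus hb
  have h3 : h.tor c ^ 2 ∈ C.XS S := by
    have := (C.XS S).inv_mem (mul_mem hm ((mem_normalizer_iff.1 (C.H_le_normalizer S hb) m).1 hm))
    rwa [inv_eq_of_mul_eq_one_right (b := h.tor c ^ 2) (by rw [← h2, sq]; group)] at this
  obtain ⟨n, hn⟩ := exists_pow_eq_self_of_coprime (h.coprime_orderOf_tor c).symm
  exact mul_mem hm (hn ▸ pow_mem h3 n)

variable (hσ : Tw C φ σ γ)
include hσ

omit [Fintype Φ] [IsAlgClosed k] in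
theorem fix_tor {c : ι → kˣ} (hc : h.tor c ∈ fix σ) : mAct (R.wM γ) c ^ 2 = c :=
  h.inj ((hσ.tor h.hMul c).symm.trans hc)

omit [Fintype Φ] in
theorem exists_nw_fix {u : Equiv.Perm Φ} (hu : u ∈ R.W) (e : γ * u = u * γ) :
    ∃ y ∈ fix σ, C.NW y u := by
  obtain ⟨n, hn⟩ := C.exists_nw_of_mem_W hu
  have h1 := hσ.nw hn
  rw [e, mul_inv_cancel_right] at h1
  obtain ⟨a, ha, e⟩ := hσ.st.lang h.frob (fun _ => hσ.mem_H) (fun _ => h.lang_H) _ (hn.cong h1)
  refine ⟨n * a⁻¹, ?_, by simpa using hn.mul (nw_of_mem_H (C.H.inv_mem ha))⟩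
  rw [mem_fix, map_mul, map_inv, mul_inv_eq_iff_eq_mul, mul_assoc, e, mul_inv_cancel_left]

omit [IsAlgClosed k] in
/-- The centraliser of an element whose roots form a subsystem that is fixed pointwise. -/
theorem exists_mul_of_comm {J : Set ι} (hJ : ∀ r, R.InJ J r → γ r = r) {c : ι → kˣ}
    (hc : ∀ r, R.chr c r = 1 → R.InJ J r) {M : Subgroup G} (h1 : ∀ r, R.InJ J r → C.x r 1 ∈ M)
    (h2 : M ≤ fix σ) {g : G} (hg : g ∈ fix σ) (e : h.tor c * g * (h.tor c)⁻¹ = g) :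
    ∃ a ∈ M, ∃ t, h.tor t ∈ fix σ ∧ ∃ b ∈ M, g = a * h.tor t * b := by
  classical
  obtain ⟨u, hu, n, w, hn, h3, v, hv, rfl⟩ := h.faithful.exists_of_comm h.hMul (A := {c})
    (h.mem g) (by simpa using e)
  simp only [Set.mem_singleton_iff, forall_eq] at hu hv h3
  obtain ⟨n₀, h4, h5, h6⟩ : ∃ n₀ ∈ M, C.NW n₀ w ∧ γ * w * γ⁻¹ = w := by
    refine closure_induction (p := fun w _ => ∃ n₀ ∈ M, C.NW n₀ w ∧ γ * w * γ⁻¹ = w) ?_
      ⟨1, one_mem _, nw_one, by simp⟩ ?_ ?_ (mem_WS_of_mAct (h.isOfFinOrder c) hn.mem_W (h.inj h3))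
    · rintro _ ⟨r, hr, rfl⟩
      refine ⟨C.n r 1, ?_, nw_n r 1, by rw [hσ.aut.conj_refl, hJ r (hc r hr)]⟩
      simpa [PreSys.n, CharTwo.neg_eq] using
        mul_mem (mul_mem (h1 r (hc r hr)) (h1 _ (hc r hr).neg)) (h1 r (hc r hr))
    · rintro a b - - ⟨x, hx, h4, h5⟩ ⟨y, hy, h6, h7⟩
      exact ⟨_, mul_mem hx hy, h4.mul h6, by conv_rhs => rw [← h5, ← h7]
                                             group⟩
    · rintro a - ⟨x, hx, h4, h5⟩
      exact ⟨_, inv_mem hx, h4.inv, by conv_rhs => rw [← h5]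
                                       group⟩
  obtain ⟨-, h7, h8, h9⟩ := h.faithful.fix_normal_form (φ := σ.toMonoidHom)
    (C.XS_mono (fun _ h => h.1) hu) hn (C.XS_mono (fun _ h => h.1) hv)
    (hσ.mem_XS (fun r hr => by rw [hJ r (hc r hr.2)]; exact hr.1) hu) (h6 ▸ hσ.nw hn)
    (hσ.mem_XS (fun r hr => by rw [hJ r (hc r hr.2)]; exact hr.1) hv) hg
  have key : ∀ u ∈ C.XS {r | R.IsPos r ∧ R.InJ J r}, σ u = u → u ∈ M := fun u hu e =>
    (h.faithful.sub (J := J)).mem_of_map_eq isClosed_pos (f := htL J) (fun _ h => h.ht_pos)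
      ((C.sub_U J).ge hu) (p := fun _ t => t ^ 2 = t)
      (fun r _ t ht => by
        rcases IsIdempotentElem.iff_eq_zero_or_one.1 ((sq t).symm.trans ht) with rfl | rfl
        exacts [by simp, h1 r r.2])
      fun r _ t ht => ⟨σ.toMonoidHom, fun _ t => t ^ 2, fun s t => (hσ.x s t).trans
        (by rw [hJ s s.2]; rfl), e, ht⟩
  obtain ⟨t, ht⟩ := h.hMul.exists_torus (h5.cong hn)
  refine ⟨u * n₀, mul_mem (key u (C.XS_mono (fun r hr => And.intro hr.1 (hc r hr.2)) hu) h7) h4, t,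
    ht ▸ mul_mem (inv_mem (h2 h4)) h8, v,
    key v (C.XS_mono (fun r hr => And.intro hr.1.1 (hc r hr.2)) hv) h9, by rw [ht]; group⟩

end Cfsg.Lib.E6T
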