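import Cfsg.Agent.Lib.E6T.CovLoc

/-!
Two criteria for the normaliser of a group of semisimple elements not to be a maximal subgroup.
-/

set_option autoImplicit false

namespace Cfsg.Lib.E6T

open Cfsg.Lib.Chev Cfsg.Lib.Chev.RootSys Cfsg.Lib.Chev.PreSys Cfsg.Lib.Chev.ChevSys Cfsg.Lib.Alg
  Cfsg.Lib.BN Subgroup

variable {ι Φ : Type} [Fintype ι] [DecidableEq ι] [Fintype Φ] {R : RootSys ι Φ} {T : ChevTab R}
  {k : Type*} [Field k] [CharP k 2] [IsAlgClosed k] {G : Type*} [Group G] {C : ChevSys R k G}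
  {φ σ : MulAut G} {γ : Equiv.Perm Φ} {Q : Type*} [Group Q] (h : C.Alg T 2 φ)
  (hσ : Tw C φ σ γ) {π : fix σ →* Q} (hπ : Cov σ π) (hQ : center Q = ⊥)

/-- The elements that commute with `s` modulo the centre. -/
def cenZ (s : G) : Subgroup G :=
  (centralizer {(s : G ⧸ center G)}).comap (QuotientGroup.mk' _)

theorem mem_cenZ {s g : G} : g ∈ cenZ s ↔ s⁻¹ * (g * s * g⁻¹) ∈ center G := by
  rw [cenZ, mem_comap, mem_centralizer_singleton_iff, ← QuotientGroup.eq,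
    QuotientGroup.mk_mul, QuotientGroup.mk_mul, QuotientGroup.mk_inv, eq_mul_inv_iff_mul_eq,
    eq_comm]
  rfl

theorem mem_cenZ_of_comm {s g : G} (e : g ∈ centralizer {s}) : g ∈ cenZ s := by
  rw [mem_cenZ, mem_centralizer_singleton_iff.1 e]
  simp

include h

omit [CharP k 2] [IsAlgClosed k] in
theorem nw_of_comm₂ {c c' : ι → kˣ} (hc : ∀ r, R.chr c r = 1 → R.chr c' r ≠ 1) {a : G}
    (h1 : h.tor c * a * (h.tor c)⁻¹ = a) (h2 : h.tor c' * a * (h.tor c')⁻¹ = a) :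
    ∃ w, C.NW a w := by
  obtain ⟨u, hu, n, w, hn, -, v, hv, rfl⟩ := h.faithful.exists_of_comm h.hMul (A := {c, c'})
    (h.mem a) (by simpa using ⟨h1, h2⟩)
  have key : ∀ p : Φ → Prop, C.XS {r | p r ∧ ∀ d ∈ ({c, c'} : Set _), R.chr d r = 1} ≤ ⊥ :=
    fun p => XS_le.2 fun r hr => (hc r (hr.2 c (by simp)) (hr.2 c' (by simp))).elim
  exact ⟨w, by rwa [mem_bot.1 (key _ hu), mem_bot.1 (key _ hv), one_mul, mul_one]⟩

omit [CharP k 2] [IsAlgClosed k] in
theorem nw_of_conj₂ {c c' : ι → kˣ} (hc : ∀ r, R.chr c r = 1 → R.chr c' r ≠ 1) {a : G}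
    (h1 : a * h.tor c * a⁻¹ ∈ C.H) (h2 : a * h.tor c' * a⁻¹ ∈ C.H) : ∃ w, C.NW a w := by
  obtain ⟨u, hu, n, w, hn, v, hv, e⟩ := exists_normal_form (h.mem a)
  have key : ∀ c, a * h.tor c * a⁻¹ ∈ C.H → h.tor c * (n⁻¹ * a) * (h.tor c)⁻¹ = n⁻¹ * a :=
    fun c hc => by
      obtain ⟨d, hd⟩ := h.hMul.exists_torus hc
      have := (Twisted.normal_form_unique h.faithful
        ((h.hMul.acts_torus d).conj_mem (fun _ h => h) hu) hu (w := w) (n := h.tor d * n)
        (by simpa using (nw_of_mem_H (h.hMul.torus_mem_H d)).mul hn) (n' := n * h.tor c)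
        (by simpa using hn.mul (nw_of_mem_H (h.hMul.torus_mem_H c))) hv
        ((h.hMul.acts_torus c).inv_conj_mem (fun _ h => h) hv) (by
          rw [hd, e]; group)).2.2.1
      rw [hd] at this
      calc _ = n⁻¹ * (n * h.tor c) * n⁻¹ * a * (h.tor c)⁻¹ := by group
        _ = _ := by rw [← this]; group
  obtain ⟨w', hw⟩ := nw_of_comm₂ h hc (key c h1) (key c' h2)
  exact ⟨_, by simpa using hn.mul hw⟩

include hσ

theorem lang_cen {d : ι → kˣ} (hd : ∀ r, R.chr (mAct (R.wM γ) d ^ 2) r = R.chr d r) :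
    Lang σ (centralizer {h.tor d}) := by
  refine hσ.st.lang h.frob (fun g hg => ?_) fun n hn => h.centralizer_tor d ▸ h.lang_sup hn _
  have h1 : (h.tor d)⁻¹ * σ (h.tor d) ∈ center G := by
    rw [hσ.tor, ← map_inv, ← map_mul, tor_mem_center h]
    exact fun r => by rw [chr_mul, chr_inv, hd, inv_mul_cancel]
  rw [mem_centralizer_singleton_iff] at hg ⊢
  have h2 := congrArg σ hg
  rw [map_mul, map_mul, ← mul_inv_cancel_left (h.tor d) (σ (h.tor d))] at h2
  generalize (h.tor d)⁻¹ * σ (h.tor d) = z at h1 h2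
  rw [mul_assoc _ z, ← mem_center_iff.1 h1, ← mul_assoc, ← mul_assoc] at h2
  exact mul_right_cancel h2

include hπ hQ

theorem not_coatom_S {P : Subgroup Q} {p e l : ℕ} (hp : p.Coprime 3)
    (hP : ∀ y ∈ P, ∃ x : fix σ, (x : G) ∈ C.H ∧ π x = y)
    {c c' : ι → kˣ} (hc : h.tor c ∈ fix σ) (h1 : π ⟨_, hc⟩ ∈ P) (h2 : c ^ p = 1)
    (hc' : h.tor c' ∈ fix σ) (h1' : π ⟨_, hc'⟩ ∈ P) (h2' : c' ^ p = 1)
    (h3 : ∀ r, R.chr c r = 1 → R.chr c' r ≠ 1)
    (hX : ∀ t : ι → kˣ, mAct (R.wM γ) t ^ 2 = t → ∀ r, R.chr t r ^ p = 1)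
    {d : ι → kˣ} (hd : ∀ r, R.chr (mAct (R.wM γ) d ^ 2) r = R.chr d r) (he : d ^ e = 1)
    (hep : e.Coprime p) {v v' : List ι} {u : Equiv.Perm Φ} (hu : u ∈ R.W)
    (h4 : mAct (R.wM (wp R.sref v)) d = d) (h5 : wp R.sref v * γ * u = u * (wp R.sref v * γ))
    (h6 : ∃ r, R.chr (mAct (R.wM u) d) r ≠ R.chr d r) (h7 : mAct (R.wM (wp R.sref v')) d = d)
    {f : ι → kˣ} (h8 : mAct (R.wM (wp R.sref v' * γ)) f ^ 2 = f) (h9 : f ≠ 1) (h10 : f ^ l = 1)
    (hl : l.Coprime 3) (hlp : l.Coprime p) (hW : l.Coprime (Nat.card R.W))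
    (hN : ∀ y ∈ normalizer (P : Set Q), y ^ l = 1 → ∀ x ∈ P, y * x * y⁻¹ = x) :
    ¬ IsCoatom (normalizer (P : Set Q)) := by
  intro hco
  have hL := lang_cen h hσ hd
  have hz : ∀ t, h.tor t ∈ fix σ → h.tor t ^ p ∈ center G := fun t ht => by
    rw [← map_pow, tor_mem_center h]
    exact fun r => by rw [chr_pow, hX t (fix_tor h hσ ht)]
  have hn : ∀ v, mAct (R.wM (wp R.sref v)) d = d → nW C v ∈ centralizer {h.tor d} := fun v hv => by
    rw [mem_centralizer_singleton_iff, ← mul_inv_eq_iff_eq_mul, h.hMul.nw_conj_torus (C.nw_wp v), hv]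
  let M : Subgroup Q := ((cenZ (h.tor d)).subgroupOf (fix σ)).map π
  have hM : ∀ y, π y ∈ M → (y : G) ∈ cenZ (h.tor d) := by
    rintro y ⟨y', h11, h12⟩
    obtain ⟨z, h13, -, rfl⟩ := hπ.exists_mul h12.symm
    exact mul_mem h11 (mem_cenZ_of_comm (center_le_centralizer _ h13))
  have hle : normalizer (P : Set Q) ≤ M := fun y hy => by
    obtain ⟨y, rfl⟩ := hπ.surj y
    refine mem_map_of_mem π (mem_cenZ.2 ?_)
    have key : ∀ a : fix σ, π a ∈ P → (y * a * y⁻¹ : G) ∈ C.H := fun a ha => by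
      obtain ⟨x, h11, h12⟩ := hP _ ((mem_normalizer_iff.1 hy _).1 ha)
      obtain ⟨z, h13, -, h14⟩ := hπ.exists_mul (a := y * a * y⁻¹) (b := x) (by simp [h12])
      rw [show (y * a * y⁻¹ : G) = x * z from congrArg Subtype.val h14]
      exact mul_mem h11 (center_le_H h h13)
    obtain ⟨w, hw⟩ := nw_of_conj₂ h h3 (key _ h1) (key _ h1')
    have h16 := h.hMul.nw_conj_torus hw d
    have h17 : (h.tor d)⁻¹ * σ (h.tor d) ∈ center G := by
      rw [hσ.tor, ← map_inv, ← map_mul, tor_mem_center h]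
      exact fun r => by rw [chr_mul, chr_inv, hd, inv_mul_cancel]
    have h18 : (h.tor d)⁻¹ * (y * h.tor d * (y : G)⁻¹) ∈ fix σ := by
      rw [mem_fix, map_mul, map_mul, map_mul, map_inv, map_inv, y.2,
        ← mul_inv_cancel_left (h.tor d) (σ (h.tor d))]
      generalize (h.tor d)⁻¹ * σ (h.tor d) = z at h17
      rw [mul_inv_rev, ← mul_assoc (y : G), mul_assoc _ z, ← mem_center_iff.1 h17, ← mul_assoc,
        ← mul_assoc, mul_assoc z⁻¹, mul_assoc z⁻¹, mul_assoc z⁻¹, mem_center_iff.1 h17]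
      simp [mul_assoc]
    change (h.tor d)⁻¹ * (y * h.tor d * (y : G)⁻¹) ∈ _
    rw [h16, ← map_inv, ← map_mul] at h18 ⊢
    have h19 : h.tor (d⁻¹ * mAct (R.wM w) d) ^ e = 1 := by
      rw [← map_pow, mul_pow, ← map_pow, inv_pow, he]; simp
    obtain ⟨n, h20⟩ := exists_pow_eq_self_of_coprime
      (hep.symm.coprime_dvd_right (orderOf_dvd_of_pow_eq_one h19))
    exact h20 ▸ pow_mem (hz _ h18) n
  have hne : M ≠ ⊤ := fun e => by
    obtain ⟨m, hm, τ, hτ, h11⟩ := hσ.transport h.frob hL (hn v h4)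
    obtain ⟨y, h12, h13⟩ := exists_nw_fix h hτ hu h5
    have h14 := mem_cenZ_of_comm hm
    have h15 := (mul_mem_cancel_left h14).1 ((mul_mem_cancel_right (inv_mem h14)).1
      (hM ⟨_, (h11 y).1 h12⟩ (e.ge (mem_top _))))
    rw [mem_cenZ, h.hMul.nw_conj_torus h13, ← map_inv, ← map_mul, tor_mem_center h] at h15
    obtain ⟨r, hr⟩ := h6
    exact hr (inv_mul_eq_one.1 (by rw [← chr_inv, ← chr_mul]; exact h15 r)).symm
  obtain ⟨m, hm, τ, hτ, h11⟩ := hσ.transport h.frob hL (hn v' h7)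
  let y : fix σ := ⟨_, (h11 _).1 (hτ.tor_mem h.hMul h8)⟩
  have h12 : y ^ l = 1 := Subtype.ext (by simp [y, ← map_pow, h10])
  have h13 : π y ∈ normalizer (P : Set Q) := (hco.le_iff_eq hne).1 hle ▸
    mem_map_of_mem π (mul_mem (mul_mem (mem_cenZ_of_comm hm) (mem_cenZ_of_comm
      (mem_centralizer_singleton_iff.2 (by rw [← map_mul, mul_comm, map_mul]))))
        (inv_mem (mem_cenZ_of_comm hm)))
  have h14 : ∀ c (hc : h.tor c ∈ fix σ), π ⟨_, hc⟩ ∈ P → c ^ p = 1 →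
      h.tor c * y * (h.tor c)⁻¹ = y := fun c hc h1 h2 => by
    have h14 : (⟨_, hc⟩ : fix σ) ^ p = 1 := Subtype.ext (by simp [← map_pow, h2])
    exact mul_inv_eq_iff_eq_mul.2 (congrArg Subtype.val (mul_inv_eq_iff_eq_mul.1 (hπ.conj_eq
      (hN _ h13 (by rw [← map_pow, h12, map_one]) _ h1) hp h14 h14))).symm
  obtain ⟨w, hw⟩ := nw_of_comm₂ h h3 (h14 c hc h1 h2) (h14 c' hc' h1' h2')
  have h15 : ∀ n : ℕ, C.NW (y ^ n) (w ^ n) := fun n => by
    induction n with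
    | zero => simpa using C.nw_one
    | succ n ih => simpa only [pow_succ] using ih.mul hw
  obtain rfl : w = 1 := (pow_eq_one_iff_of_coprime hW).1 ⟨h.faithful.nw_unique (h15 l)
    (by rw [← coe_pow, h12]; exact C.nw_one),
    congrArg Subtype.val (pow_card_eq_one' (x := (⟨w, hw.mem_W⟩ : R.W)))⟩
  obtain ⟨t, ht⟩ := h.hMul.exists_torus hw.mem_H
  have h16 : π (y ^ p) = 1 := hπ.map_central hQ (ht ▸ hz t (ht ▸ y.2) :)
  refine hπ.ne_one hl h12 (fun e => h9 (h.inj ?_))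
    ((pow_eq_one_iff_of_coprime hlp).1 ⟨by rw [← map_pow, h12, map_one], by rwa [← map_pow]⟩)
  simpa [y, Subtype.ext_iff] using e

theorem not_coatom_M [IsSimpleGroup Q] (hS : ∀ r s, R.ln r = R.ln s) {p : ℕ} (hp : p.Prime)
    (hp3 : p.Coprime 3) {c : ι → kˣ} (hc : h.tor c ∈ fix σ) (h1 : c ^ p = 1) (h2 : c ≠ 1)
    {r s : Φ} (h3 : γ r = s ∧ γ s = r ∧ R.IsPos r ∧ R.IsPos s ∧ 0 ≤ R.pair r s)
    (h4 : R.chr c r = 1 ∧ R.chr c s = 1) {J : Set ι} (h5 : ∀ r, R.InJ J r → R.InJ J (γ r))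
    (h6 : ∀ r s, R.chr c r = 1 → R.InJ J s → R.pair r s = 0) {v : List ι} (h7 : ∀ i ∈ v, i ∈ J)
    {a b : Φ} (h8 : (wp R.sref v * γ) a = b ∧ (wp R.sref v * γ) b = a ∧ R.IsPos a ∧ R.IsPos b ∧
      0 ≤ R.pair a b ∧ a ≠ b ∧ R.InJ J a ∧ R.InJ J b) {θ θ' : Φ}
    (h9 : R.chr c θ = 1 ∧ R.chr c θ' = 1) {t : kˣ}
    (h10 : ∀ r, R.chr c r * (t ^ R.pair θ r * t ^ R.pair θ' r) ≠ 1) :
    ¬ IsCoatom (normalizer (zpowers (π ⟨_, hc⟩) : Set Q)) := by
  intro hco
  set x : fix σ := ⟨_, hc⟩ with hx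
  have hxp : x ^ p = 1 := Subtype.ext (by simp [x, ← map_pow, h1])
  obtain ⟨ω, hω, -⟩ := exists_primitive (k := k) (m := 3) (by
    rw [show ((3 : ℕ) : k) = 2 + 1 by norm_num, CharTwo.two_eq_zero]; simp)
  have hω1 : (ω : k) ≠ 1 := fun e => by simp [Units.val_eq_one.1 e] at hω
  have hω4 : (ω : k) ^ 4 = ω := by
    rw [pow_succ, ← Units.val_pow_eq_pow_val, ← hω, pow_orderOf_eq_one]; simp
  have hcomm : ∀ g ∈ C.XS {r | R.chr c r = 1}, ∀ g' ∈ C.XS {r | R.InJ J r}, Commute g g' :=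
    fun g hg g' hg' => (XS_le (K := centralizer {g'})).2 (fun r hr t =>
      mem_centralizer_singleton_iff.2 ((XS_le (K := centralizer {C.x r t})).2 (fun s hs u =>
        mem_centralizer_singleton_iff.2
          (commute_of_nonneg hS (h6 r s hr hs).ge t u).symm) hg' _ rfl)) hg _ rfl |>.symm
  let K : Subgroup Q := closure {y | y * y = 1 ∧ y * π x * y⁻¹ = π x}
  have hle : normalizer (zpowers (π x) : Set Q) ≤ normalizer (K : Set Q) := by
    have key : ∀ g ∈ normalizer (zpowers (π x) : Set Q), ∀ y ∈ K, g * y * g⁻¹ ∈ K := fun g hg y hy =>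
      (closure_le (K.comap (MulAut.conj g).toMonoidHom)).2 (fun y hy => subset_closure ⟨by
        rw [← map_mul, hy.1, map_one], by
        obtain ⟨i, hi⟩ := mem_zpowers_iff.1
          ((mem_normalizer_iff''.1 hg _).1 (mem_zpowers (π x)))
        calc _ = g * (y * (g⁻¹ * π x * g) * y⁻¹) * g⁻¹ := by simp [mul_assoc]
          _ = _ := by rw [← hi, ← conj_zpow, hy.2, hi]; group⟩) hy
    exact fun g hg => mem_normalizer_of_conj (key g hg) (by simpa using key _ (inv_mem hg))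
  have hne : normalizer (K : Set Q) ≠ ⊤ := fun e => by
    rcases (normalizer_eq_top_iff.1 e).eq_bot_or_eq_top with e | e
    · have h11 := commute_of_nonneg (C := C) hS h3.2.2.2.2
      let y : fix σ := ⟨_, hσ.pair_mem h3.1 h3.2.1 h11 hω4⟩
      have h12 : y * y = 1 := Subtype.ext ((pair_mul h11 _ _).trans (by
        simp [CharTwo.add_self_eq_zero]))
      refine hπ.ne_one (m := 2) (by decide) (x := y) (by rwa [sq]) (fun e => ?_)
        (e.le (subset_closure ⟨by rw [← map_mul, h12, map_one], ?_⟩))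
      · rcases pair_eq_one h.faithful h3.2.2.1 h3.2.2.2.1 (congrArg Subtype.val e) with e | e
        · exact ω.ne_zero e
        · exact hω1 (mul_left_cancel₀ ω.ne_zero (by rw [← sq, e.2, mul_one]))
      · rw [← map_inv, ← map_mul, ← map_mul, mul_inv_eq_iff_eq_mul.2]
        exact Subtype.ext (mem_centralizer_singleton_iff.1 (h.hMul.le_centralizer c
          (mem_sup_right (mul_mem (C.x_mem h4.1 _) (C.x_mem h4.2 _)))))
    · refine hπ.ne_one hp3 hxp (fun e => h2 (h.inj (by simpa [x, Subtype.ext_iff] using e)))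
        (hQ.le (mem_center_iff.2 fun g => mem_centralizer_singleton_iff.1
          ((closure_le (centralizer {π x})).2 (fun y hy => ?_) (e.ge (mem_top g)))))
      exact mem_centralizer_singleton_iff.2 (mul_inv_eq_iff_eq_mul.1 hy.2)
  obtain ⟨m, hm, τ, hτ, h11⟩ := hσ.transport h.frob
    (hσ.st.lang h.frob (fun _ => hσ.mem_XS h5) fun n hn => h.lang n hn _)
    (nW_mem fun i hi => n_mem _ (C.x_mem (inJ_simple_iff.2 (h7 i hi)))
      (C.x_mem (inJ_simple_iff.2 (h7 i hi)).neg) 1)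
  obtain ⟨e1, e2, e3, e4, e5, e6, e7, e8⟩ := h8
  have h12 := commute_of_nonneg (C := C) hS e5
  let y : {u : k // u ^ 4 = u} → fix σ := fun u => ⟨_, (h11 _).1 (hτ.pair_mem e1 e2 h12 u.2)⟩
  have h13 : ∀ u, (y u : G) ∈ C.XS {r | R.InJ J r} := fun u =>
    mul_mem (mul_mem hm (mul_mem (C.x_mem e7 _) (C.x_mem e8 _))) (inv_mem hm)
  have h14 : ∀ u, y u * y u = 1 := fun u => Subtype.ext (by
    simp [y, pair_mul h12, CharTwo.add_self_eq_zero])
  have h15 : ∀ u, π (y u) * π x * (π (y u))⁻¹ = π x → u.1 = 0 := fun u e => by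
    have e9 := congrArg Subtype.val (mul_inv_eq_iff_eq_mul.1 (hπ.conj_eq e hp3 hxp hxp))
    have e10 : ∀ θ, R.chr c θ = 1 → Commute (y u : G) (C.h θ t) := fun θ hθ =>
      (hcomm _ (h_mem _ (C.x_mem hθ) (C.x_mem (by simpa [chr_neg] using hθ)) t) _ (h13 u)).symm
    have e11 := eq_one_of_mem_H h (h.mem_H_of_comm
      (c := c * ((fun i => t ^ R.co θ i) * fun i => t ^ R.co θ' i))
      (fun r => by rw [chr_mul, chr_mul, chr_co, chr_co]; exact h10 r) (g := y u) (by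
        rw [map_mul, map_mul, ← h.hMul.h_eq_torus, ← h.hMul.h_eq_torus]
        exact Commute.mul_right e9 ((e10 θ h9.1).mul_right (e10 θ' h9.2))))
      (congrArg Subtype.val (h14 u))
    exact (pair_eq_one h.faithful e3 e4 (by simpa [y] using e11)).resolve_right fun e => e6 e.1
  have h16 : ∀ u, u.1 ≠ 0 → π (y u) * π x * (π (y u))⁻¹ = (π x)⁻¹ := fun u hu => by
    refine (conj_eq_or_inv hp (by rw [← map_mul, h14, map_one]) (by rw [← map_pow, hxp, map_one])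
      ((mem_normalizer_iff.1 (((hco.le_iff_eq hne).1 hle).le (centralizer_le_normalizer _ ?_))
        _).1 (mem_zpowers _))).resolve_left fun e => hu (h15 u e)
    refine fun g hg => mem_centralizer_singleton_iff.1
      ((closure_le (centralizer {π (y u)})).2 (fun g hg => ?_) hg)
    obtain ⟨g, rfl, e9⟩ := hπ.exists_lift (m := 2) (by decide) ((sq g).trans hg.1)
    have e10 := congrArg Subtype.val (mul_inv_eq_iff_eq_mul.1 (hπ.conj_eq hg.2 hp3 hxp hxp))
    have e11 := hcomm _ (mem_XS_of_sq h (h.centralizer_tor c ▸ mem_centralizer_singleton_iff.2 e10)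
      (congrArg Subtype.val ((sq g).symm.trans e9))) _ (h13 u)
    rw [SetLike.mem_coe, mem_centralizer_singleton_iff, ← map_mul, ← map_mul]
    exact congrArg π (Subtype.ext e11)
  have h17 : (1 + ω : k) ^ 4 = 1 + ω := by
    rw [show 4 = 2 * 2 from rfl, pow_mul, CharTwo.add_sq, CharTwo.add_sq, ← pow_mul, ← pow_mul, hω4,
      one_pow]
  refine hω1 (CharTwo.add_eq_zero.1 (h15 ⟨_, h17⟩ ?_)).symm
  rw [show y ⟨_, h17⟩ = y ⟨1, one_pow 4⟩ * y ⟨ω, hω4⟩ from Subtype.ext (by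
    simp only [y, coe_mul, conj_mul, pair_mul h12]), map_mul, mul_inv_rev,
    mul_assoc (π _) (π _), mul_assoc (π _), ← mul_assoc (_ * _), h16 _ ω.ne_zero, ← mul_assoc,
    ← conj_inv, h16 _ one_ne_zero, inv_inv]

end Cfsg.Lib.E6T
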